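import Groth.Agent.LocImmBlow.Basic
import Groth.Agent.LocImmFT.Main
import Groth.Agent.S0384
import Groth.Agent.LocImmB.More
import Groth.Agent.Nagata.Projective
import Groth.Agent.TMul.AmpleComp
import Groth.Agent.BlowAmp.Ample

/-!
# Consequences of admissible blow-ups relative to localizing immersions
-/

set_option autoImplicit false
set_option linter.style.haveILetI false
set_option backward.isDefEq.respectTransparency false
set_option backward.isDefEq.respectTransparency.types false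

universe u

open CategoryTheory CategoryTheory.Limits AlgebraicGeometry TopologicalSpace LocImm

noncomputable section

namespace Groth.Agent.LocImmBlow

variable {X Y Z U S : Scheme.{u}}

/-- A proper morphism with a relatively ample module is projective. -/
theorem isProjective_of_ample [CompactSpace S] [QuasiSeparatedSpace S] (p : X ⟶ S) [IsProper p] {L : X.Modules}
    (hL : RelAmple.IsRelAmple p L) : RelProj.IsProjective p := by
  obtain ⟨P, q, i, hq, _, _, hid, hiq⟩ :=
    Nagata.exists_open_projective (q := p) ⟨inferInstance, inferInstance, L, hL⟩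
  haveI : IsProper q := (Groth.Agent.SymAlg.isProper_and_ftData_of_isProjective hq).1
  haveI : IsProper (i ≫ q) := hiq ▸ inferInstance
  haveI : IsProper i := IsProper.of_comp (f := i) (g := q)
  haveI : IsIso i := (isIso_iff_isOpenImmersion_and_surjective _).2 ⟨inferInstance,
    ⟨fun y => i.isClosedMap.isClosed_range.closure_eq.subset (hid y)⟩⟩
  rw [← hiq]
  exact Groth.Agent.SymAlg.isProjective_closedImm_comp i hq

/-- A blow-up of a projective scheme is projective. -/
theorem isProjective_blowUp_comp [IsNoetherian S] [IsNoetherian X] {p : X ⟶ S} (hp : RelProj.IsProjective p)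
    {X' : Scheme.{u}} {b : X' ⟶ X} {J : X.IdealSheafData} (hb : BlowUp.IsBlowUp b J) :
    RelProj.IsProjective (b ≫ p) := by
  obtain ⟨hpp, L, hL⟩ := Groth.Agent.SymAlg.isProper_and_ftData_of_isProjective hp
  haveI := hpp
  haveI := isProper_blowUp hb
  have hA := Groth.Agent.SymAlg.isRelAmple_of_isRelVeryAmple p hL.1 hL.isRelVeryAmple
  obtain ⟨n, -, hn⟩ := TMul.exists_isRelAmple_comp b p (L := ClSub.idealMod (J.comap b))
    ⟨inferInstance, fun V => BlowAmp.isAmple_restrict_exceptional hb (RZUnion.isFiniteType_of_isLocallyNoetherian _) V⟩ hA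
  exact isProjective_of_ample _ (hn n le_rfl)

/-- Factorisation into a localizing immersion and a proper morphism. -/
theorem exists_proper_factor [IsNoetherian X] [IsNoetherian S] (f : X ⟶ S) [IsSeparated f]
    [EssFT.LocallyEssFiniteType f] :
    ∃ (P : Scheme.{u}) (i : X ⟶ P) (q : P ⟶ S), IsNoetherian P ∧ IsLocImmersion i ∧ IsProper q ∧ i ≫ q = f := by
  obtain ⟨Y, k, p, _, hk, _, _, _, hkp⟩ := LocImmFT.exists_locImmersion_finiteType f
  obtain ⟨Yc, j, g, _, _, _, hjg⟩ := S0384.result p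
  exact ⟨Yc, k ≫ j, g, isNoetherian_of_ft g, isLocImmersion_of_isIso_comp hk j, inferInstance,
    by rw [Category.assoc, hjg, hkp]⟩

/-- Composite of blow-ups avoiding a localizing immersion. -/
theorem exists_comp_blowUp [IsNoetherian X] {X₁ X₂ : Scheme.{u}} {b : X₁ ⟶ X} {I : X.IdealSheafData}
    {b' : X₂ ⟶ X₁} {J : X₁.IdealSheafData} (hb : BlowUp.IsBlowUp b I) (hb' : BlowUp.IsBlowUp b' J)
    (w : U ⟶ X₁) (h : U ⟶ X) (hw : w ≫ b = h) (hI : Disjoint (I.support : Set X) (Set.range h))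
    (hJ : Disjoint (J.support : Set X₁) (Set.range w)) :
    ∃ K : X.IdealSheafData, BlowUp.IsBlowUp (b' ≫ b) K ∧ Disjoint (K.support : Set X) (Set.range h) := by
  haveI := isNoetherian_blowUp hb
  obtain ⟨K, -, hKs, hK⟩ := RZExt.exists_isBlowUp_comp hb (RZUnion.isFiniteType_of_isLocallyNoetherian _)
    (RZUnion.isFiniteType_of_isLocallyNoetherian _) hb'
  refine ⟨K, hK, ?_⟩
  rw [hKs, Set.disjoint_union_left]
  refine ⟨hI, Set.disjoint_left.2 ?_⟩
  rintro _ ⟨z, hz, rfl⟩ ⟨x, hx⟩
  have e : w x = z := RZExt.eq_of_isBlowUp hb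
    (fun h' => Set.disjoint_left.1 hI h' ⟨x, by rw [← Scheme.Hom.comp_apply, hw]⟩)
    (by rw [← Scheme.Hom.comp_apply, hw]; exact hx)
  exact Set.disjoint_left.1 hJ hz ⟨x, e⟩

/-- Finitely many proper models dominated by one by admissible blow-ups. -/
theorem exists_common [IsNoetherian S] [IsNoetherian U] (gU : U ⟶ S) :
    ∀ (n : ℕ) (P : Fin (n + 1) → Scheme.{u}) [∀ i, IsNoetherian (P i)] (r : ∀ i, P i ⟶ S) [∀ i, IsProper (r i)]
      (h : ∀ i, U ⟶ P i), (∀ i, IsLocImmersion (h i)) → (∀ i, h i ≫ r i = gU) →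
      ∃ (W : Scheme.{u}) (ρ : W ⟶ S) (w : U ⟶ W), IsNoetherian W ∧ IsProper ρ ∧ IsLocImmersion w ∧
        DenseRange w.base ∧ w ≫ ρ = gU ∧ ∀ i, ∃ (c : W ⟶ P i) (J : (P i).IdealSheafData), BlowUp.IsBlowUp c J ∧
          Disjoint (J.support : Set (P i)) (Set.range (h i)) ∧ w ≫ c = h i ∧ c ≫ r i = ρ := by
  intro n
  induction n with
  | zero =>
    intro P _ r _ h hh hr
    obtain ⟨K, Y', b, u₀, hb, hd, hu, hub, hud⟩ := exists_dense_modification (hh 0)
    haveI := isProper_blowUp hb
    refine ⟨Y', b ≫ r 0, u₀, isNoetherian_blowUp hb, inferInstance, hu, hud, by rw [reassoc_of% hub, hr], fun i => ?_⟩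
    obtain rfl : i = 0 := Fin.fin_one_eq_zero i
    exact ⟨b, K, hb, hd, hub, rfl⟩
  | succ n ih =>
    intro P _ r _ h hh hr
    obtain ⟨W, ρ, w, _, _, hw, -, hwρ, hc⟩ := ih (fun i => P i.succ) (fun i => r i.succ) (fun i => h i.succ)
      (fun i => hh _) (fun i => hr _)
    obtain ⟨I₁, W₁, c', e, m, hc', hI₁, he, -, hec, hem, hcm⟩ :=
      exists_extension ρ (r 0) w hw (h 0) (by rw [hwρ, hr])
    haveI := isNoetherian_blowUp hc'
    haveI := isProper_blowUp hc'
    haveI : IsProper (m ≫ r 0) := hcm ▸ inferInstance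
    haveI : IsProper m := IsProper.of_comp (f := m) (g := r 0)
    obtain ⟨I₂, J₂, W₂, Pt, b, c₂, g', v, hb, hI₂, hc₂, hJ₂, -, hgc, hvb, hv, -, hvd, hiso⟩ :=
      exists_modification m he (hem ▸ hh 0)
    haveI := hiso inferInstance
    haveI := isProper_blowUp hb
    haveI := isNoetherian_blowUp hb
    refine ⟨W₂, b ≫ c' ≫ ρ, v, inferInstance, inferInstance, hv, hvd, by rw [reassoc_of% hvb, reassoc_of% hec, hwρ],
      fun i => ?_⟩
    cases i using Fin.cases with
    | zero =>
      refine ⟨g' ≫ c₂, J₂, RZExt.isBlowUp_iso_comp hc₂ g', hem ▸ hJ₂, ?_, ?_⟩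
      · rw [hgc, reassoc_of% hvb, hem]
      · rw [Category.assoc, reassoc_of% hgc, hcm]
    | succ i =>
      obtain ⟨c, J, hcb, hJd, hwc, hcr⟩ := hc i
      obtain ⟨K₁, hK₁, hK₁d⟩ := exists_comp_blowUp hcb hc' w (h i.succ) hwc hJd hI₁
      obtain ⟨K₂, hK₂, hK₂d⟩ := exists_comp_blowUp hK₁ hb e (h i.succ) (by rw [reassoc_of% hec, hwc]) hK₁d hI₂
      refine ⟨b ≫ c' ≫ c, K₂, hK₂, hK₂d, by rw [reassoc_of% hvb, reassoc_of% hec, hwc], ?_⟩
      simp only [Category.assoc, hcr]

/-- The graph of the projection from a fibre product over a separated scheme. -/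
theorem isClosedImmersion_lift {P : Scheme.{u}} (i : Y ⟶ P) (f : X ⟶ P) (q : P ⟶ S) [IsSeparated q]
    (a : X ⟶ S) (b : Y ⟶ S) (ha : f ≫ q = a) (hb : i ≫ q = b) (h : pullback.snd i f ≫ a = pullback.fst i f ≫ b) :
    IsClosedImmersion (pullback.lift (pullback.snd i f) (pullback.fst i f) h) := by
  subst ha hb
  have e : pullback.lift (pullback.snd i f) (pullback.fst i f) h =
      pullback.mapDesc i f q ≫ (pullbackSymmetry (i ≫ q) (f ≫ q)).hom := by
    apply pullback.hom_ext <;> simp [pullback.mapDesc, pullback.map]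
  rw [e]
  infer_instance

end Groth.Agent.LocImmBlow
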