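import Groth.Agent.RZExt.Consequences
import Groth.Agent.RZExt.Descend
import Groth.Agent.RZExt.Graph
import Groth.Agent.RZExt.Many
import Groth.Agent.Nagata.Graph
import Groth.Agent.BlowUpExist.Proper
import Groth.Agent.RZUnion.Separate
import Groth.Agent.LocImmFT.Cons
import Groth.Agent.S18195

/-!
# Admissible blow-ups relative to localizing immersions
-/

set_option autoImplicit false
set_option linter.style.haveILetI false
set_option backward.isDefEq.respectTransparency false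
set_option backward.isDefEq.respectTransparency.types false

universe u

open CategoryTheory CategoryTheory.Limits AlgebraicGeometry TopologicalSpace LocImm

noncomputable section

namespace Groth.Agent.LocImmBlow

variable {X Y Z U : Scheme.{u}}

theorem isNoetherian_of_ft (p : X ⟶ Y) [IsNoetherian Y] [LocallyOfFiniteType p] [QuasiCompact p] : IsNoetherian X := by
  haveI := LocallyOfFiniteType.isLocallyNoetherian p
  haveI : CompactSpace X := QuasiCompact.compactSpace_of_compactSpace p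
  exact {}

theorem isLocImmersion_of_isIso_comp {U X Y : Scheme.{u}} [IsNoetherian U] [IsNoetherian X] {f : U ⟶ X}
    (hf : IsLocImmersion f) (e : X ⟶ Y) [IsOpenImmersion e] : IsLocImmersion (f ≫ e) :=
  LocImmFT.isLocImmersion_comp hf (LocImmFT.isLocImmersion_of_isOpenImmersion e)

theorem isProper_blowUp [IsNoetherian Y] {Y' : Scheme.{u}} {b : Y' ⟶ Y} {J : Y.IdealSheafData}
    (hb : BlowUp.IsBlowUp b J) : IsProper b :=
  BlowUpExist.isProper_of_isFiniteType hb (RZUnion.isFiniteType_of_isLocallyNoetherian _)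

theorem isNoetherian_blowUp [IsNoetherian Y] {Y' : Scheme.{u}} {b : Y' ⟶ Y} {J : Y.IdealSheafData}
    (hb : BlowUp.IsBlowUp b J) : IsNoetherian Y' := by
  haveI := isProper_blowUp hb
  exact isNoetherian_of_ft b

/-- A localizing immersion avoiding the centre lifts to the blow-up. -/
theorem exists_lift [IsNoetherian U] [IsNoetherian Y] {Y' : Scheme.{u}} {b : Y' ⟶ Y} {J : Y.IdealSheafData}
    (hb : BlowUp.IsBlowUp b J) {f : U ⟶ Y} (hf : IsLocImmersion f)
    (hd : Disjoint (J.support : Set Y) (Set.range f)) : ∃ u : U ⟶ Y', u ≫ b = f ∧ IsLocImmersion u := by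
  let C : Y.Opens := J.support.compl
  haveI := BlowUpLib.isIso_restrict hb
  haveI := isNoetherian_blowUp hb
  haveI := LocImmFT.isNoetherian_opens C
  haveI := LocImmFT.isNoetherian_opens (b ⁻¹ᵁ C)
  have hr : Set.range f ⊆ Set.range C.ι := by
    rw [Scheme.Opens.range_ι]
    exact fun y hy h => Set.disjoint_left.1 hd h hy
  have hl := LocImmFT.isLocImmersion_lift f hf C hr
  refine ⟨IsOpenImmersion.lift C.ι f hr ≫ inv (b ∣_ C) ≫ (b ⁻¹ᵁ C).ι, ?_, ?_⟩
  · rw [Category.assoc, Category.assoc, ← morphismRestrict_ι, IsIso.inv_hom_id_assoc, IsOpenImmersion.lift_fac]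
  · exact isLocImmersion_of_isIso_comp hl _

/-- A blow-up making the image dense. -/
theorem exists_dense_modification [IsNoetherian U] [IsNoetherian Y] {f : U ⟶ Y} (hf : IsLocImmersion f) :
    ∃ (K : Y.IdealSheafData) (Y' : Scheme.{u}) (b : Y' ⟶ Y) (u : U ⟶ Y'), BlowUp.IsBlowUp b K ∧
      Disjoint (K.support : Set Y) (Set.range f) ∧ IsLocImmersion u ∧ u ≫ b = f ∧ DenseRange u.base := by
  haveI := LocImmB.flat hf.1
  have hgen := LocImmB.stableUnderGeneralization_range f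
  let T : Set (Set Y) := {c ∈ irreducibleComponents Y | Disjoint c (Set.range f)}
  have hT : T.Finite := NoetherianSpace.finite_irreducibleComponents.subset fun c hc => hc.1
  let C : Closeds Y := ⟨⋃₀ T, Set.sUnion_eq_biUnion (s := T) ▸
    hT.isClosed_biUnion fun c hc => isClosed_of_mem_irreducibleComponents c hc.1⟩
  have hCd : Disjoint (C : Set Y) (Set.range f) := Set.disjoint_sUnion_left.2 fun c hc => hc.2
  have hout : ∀ y, y ∉ (C : Set Y) → y ∈ closure (Set.range f) := by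
    intro y hy
    have hc := irreducibleComponent_mem_irreducibleComponents y
    obtain ⟨z, hzc, hzf⟩ := Set.not_disjoint_iff.1 fun h => hy ⟨irreducibleComponent y, ⟨hc, h⟩, mem_irreducibleComponent⟩
    obtain ⟨η, hη⟩ : ∃ η, IsGenericPoint η (irreducibleComponent y) :=
      QuasiSober.sober isIrreducible_irreducibleComponent isClosed_irreducibleComponent
    have hηf : η ∈ Set.range f := hgen (hη.specializes hzc) hzf
    exact closure_mono (Set.singleton_subset_iff.2 hηf) ((hη.symm ▸ mem_irreducibleComponent : y ∈ closure ({η} : Set Y)))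
  let K := Scheme.IdealSheafData.vanishingIdeal C
  have hK : (K.support : Set Y) = C := by simp [K]
  have hKd : Disjoint (K.support : Set Y) (Set.range f) := hK.symm ▸ hCd
  obtain ⟨Y', b, hb⟩ := BlowUpExist.exists_isBlowUp Y K
  obtain ⟨v, hvb, hv⟩ := exists_lift hb hf hKd
  refine ⟨K, Y', b, v, hb, hKd, hv, hvb, ?_⟩
  show Dense (Set.range v)
  rw [dense_iff_inter_open]
  intro G hG hGne
  have hd := RZExt.dense_awayFrom hb.1
  rw [Scheme.IdealSheafData.support_comap] at hd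
  obtain ⟨y, hyG, hy⟩ := dense_iff_inter_open.1 hd G hG hGne
  let O : Y.Opens := K.support.compl
  haveI := BlowUpLib.isIso_restrict hb
  have hopen : IsOpen (O.ι '' ((b ∣_ O) '' ((b ⁻¹ᵁ O).ι ⁻¹' G))) :=
    O.ι.isOpenEmbedding.isOpenMap _ ((b ∣_ O).isOpenEmbedding.isOpenMap _ (hG.preimage (b ⁻¹ᵁ O).ι.continuous))
  have hby : b y ∈ O.ι '' ((b ∣_ O) '' ((b ⁻¹ᵁ O).ι ⁻¹' G)) :=
    ⟨_, ⟨⟨y, hy⟩, hyG, rfl⟩, by rw [← Scheme.Hom.comp_apply, morphismRestrict_ι]; rfl⟩
  obtain ⟨_, ⟨_, ⟨w, hw, rfl⟩, rfl⟩, x, hx⟩ := mem_closure_iff.1 (hout (b y) (hK ▸ hy)) _ hopen hby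
  refine ⟨w.1, hw, x, ?_⟩
  have hwe : b (v x) = b w.1 := by
    rw [← Scheme.Hom.comp_apply, hvb, hx, ← Scheme.Hom.comp_apply, morphismRestrict_ι]
    rfl
  refine RZExt.eq_of_isBlowUp hb (fun h => Set.disjoint_left.1 hKd h ⟨x, ?_⟩) hwe
  rw [← Scheme.Hom.comp_apply, hvb]

/-- A morphism of finite type between targets of compatible localizing immersions becomes an open immersion after
blow-ups avoiding the images; an isomorphism if it is proper. -/
theorem exists_modification [IsNoetherian U] [IsNoetherian Y] [IsNoetherian Z] (g : Y ⟶ Z) [IsSeparated g]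
    [LocallyOfFiniteType g] {f : U ⟶ Y} (hf : IsLocImmersion f) (hfg : IsLocImmersion (f ≫ g)) :
    ∃ (I : Y.IdealSheafData) (J : Z.IdealSheafData) (Yt Zt : Scheme.{u}) (b : Yt ⟶ Y) (c : Zt ⟶ Z) (g' : Yt ⟶ Zt)
      (v : U ⟶ Yt), BlowUp.IsBlowUp b I ∧ Disjoint (I.support : Set Y) (Set.range f) ∧ BlowUp.IsBlowUp c J ∧
      Disjoint (J.support : Set Z) (Set.range (f ≫ g)) ∧ IsOpenImmersion g' ∧ g' ≫ c = b ≫ g ∧ v ≫ b = f ∧
      IsLocImmersion v ∧ IsLocImmersion (v ≫ g') ∧ DenseRange v.base ∧ (IsProper g → IsIso g') := by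
  obtain ⟨K, Y₁, b₀, f₁, hb₀, hKd, hf₁, hfb₀, hd⟩ := exists_dense_modification hf
  haveI := isProper_blowUp hb₀
  haveI := isNoetherian_blowUp hb₀
  let g₁ : Y₁ ⟶ Z := b₀ ≫ g
  have hfg₁ : f₁ ≫ g₁ = f ≫ g := by simp only [g₁, reassoc_of% hfb₀]
  obtain ⟨U₀, hU₀, hU₀i⟩ := LocImmFT.exists_open_isOpenImmersion f₁ g₁ hf₁ (hfg₁ ▸ hfg)
  haveI := hU₀i
  haveI : QuasiCompact g₁ := inferInstance
  let O : Z.Opens := (U₀.ι ≫ g₁).opensRange
  have hle : Set.range U₀.ι ⊆ Set.range (g₁ ⁻¹ᵁ O).ι := by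
    rw [Scheme.Opens.range_ι, Scheme.Opens.range_ι]
    exact fun y hy => ⟨⟨y, hy⟩, rfl⟩
  let l := IsOpenImmersion.lift (g₁ ⁻¹ᵁ O).ι U₀.ι hle
  have hl : l ≫ (g₁ ⁻¹ᵁ O).ι = U₀.ι := IsOpenImmersion.lift_fac _ _ _
  haveI : IsOpenImmersion (l ≫ (g₁ ⁻¹ᵁ O).ι) := hl ▸ inferInstance
  haveI : IsOpenImmersion l := IsOpenImmersion.of_comp l (g₁ ⁻¹ᵁ O).ι
  have hlg : l ≫ (g₁ ∣_ O) = (U₀.ι ≫ g₁).isoOpensRange.hom := by
    rw [← cancel_mono O.ι, Category.assoc, morphismRestrict_ι, reassoc_of% hl, Scheme.Hom.isoOpensRange_hom_ι]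
  haveI : IsProper (l ≫ (g₁ ∣_ O)) := hlg ▸ inferInstance
  haveI : IsProper l := IsProper.of_comp (f := l) (g := g₁ ∣_ O)
  haveI : IsIso l := by
    refine (isIso_iff_isOpenImmersion_and_surjective _).2 ⟨inferInstance, ⟨fun y => ?_⟩⟩
    suffices h : y ∈ closure (Set.range l) by rwa [l.isClosedMap.isClosed_range.closure_eq] at h
    rw [(g₁ ⁻¹ᵁ O).ι.isOpenEmbedding.isEmbedding.closure_eq_preimage_closure_image]
    refine closure_mono ?_ (hd y.1)
    rintro _ ⟨x, rfl⟩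
    refine ⟨l ⟨f₁ x, hU₀ ⟨x, rfl⟩⟩, ⟨_, rfl⟩, ?_⟩
    rw [← Scheme.Hom.comp_apply, hl]
    rfl
  haveI : IsIso (l ≫ (g₁ ∣_ O)) := hlg ▸ inferInstance
  haveI : IsIso (g₁ ∣_ O) := IsIso.of_isIso_comp_left l _
  obtain ⟨I, D, h, hh, -, hblow, hadm, htop⟩ := RZExt.exists_openImmersion (NoetherianSpace.isCompact (O : Set Z)) g₁
  obtain ⟨K', -, hK's, hK'⟩ := RZExt.exists_isBlowUp_comp hb₀ (RZUnion.isFiniteType_of_isLocallyNoetherian _)
    hadm.1 hblow
  have hfO : ∀ x, f₁ x ∈ g₁ ⁻¹ᵁ O := fun x => ⟨⟨f₁ x, hU₀ ⟨x, rfl⟩⟩, rfl⟩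
  obtain ⟨v, hv, hvl⟩ := exists_lift hblow hf₁ (by
    refine Set.disjoint_left.2 ?_
    rintro _ hy ⟨x, rfl⟩
    exact Set.disjoint_left.1 hadm.2 hy (hfO x))
  haveI := isNoetherian_blowUp hblow
  have hvd : DenseRange v.base := by
    show Dense (Set.range v)
    rw [dense_iff_inter_open]
    intro G hG hGne
    have hdA := RZExt.dense_awayFrom hblow.1
    rw [Scheme.IdealSheafData.support_comap] at hdA
    obtain ⟨y, hyG, hy⟩ := dense_iff_inter_open.1 hdA G hG hGne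
    let O' : Y₁.Opens := (I.ideal.comap g₁).support.compl
    haveI := BlowUpLib.isIso_restrict hblow
    have hopen : IsOpen (O'.ι '' ((h ∣_ O') '' ((h ⁻¹ᵁ O').ι ⁻¹' G))) :=
      O'.ι.isOpenEmbedding.isOpenMap _ ((h ∣_ O').isOpenEmbedding.isOpenMap _ (hG.preimage (h ⁻¹ᵁ O').ι.continuous))
    have hhy : h y ∈ O'.ι '' ((h ∣_ O') '' ((h ⁻¹ᵁ O').ι ⁻¹' G)) :=
      ⟨_, ⟨⟨y, hy⟩, hyG, rfl⟩, by rw [← Scheme.Hom.comp_apply, morphismRestrict_ι]; rfl⟩
    obtain ⟨_, ⟨_, ⟨w, hw, rfl⟩, rfl⟩, x, hx⟩ := mem_closure_iff.1 (hd (h y)) _ hopen hhy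
    refine ⟨w.1, hw, x, ?_⟩
    refine RZExt.eq_of_isBlowUp hblow (fun hb' => Set.disjoint_left.1 hadm.2 hb' ?_) ?_
    · rw [← Scheme.Hom.comp_apply, hv]
      exact hfO x
    · rw [← Scheme.Hom.comp_apply, hv, hx, ← Scheme.Hom.comp_apply, morphismRestrict_ι]
      rfl
  refine ⟨K', I.ideal, D.toScheme, I.T, h ≫ b₀, I.b, D.ι, v, hK', ?_, I.isBlowUp, ?_, inferInstance, ?_,
    by rw [reassoc_of% hv, hfb₀], hvl, isLocImmersion_of_isIso_comp hvl D.ι, hvd, fun hg => ?_⟩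
  · rw [hK's, Set.disjoint_union_left]
    refine ⟨hKd, Set.disjoint_left.2 ?_⟩
    rintro _ ⟨z, hz, rfl⟩ ⟨x, hx⟩
    have e : f₁ x = z := RZExt.eq_of_isBlowUp hb₀
      (fun h' => Set.disjoint_left.1 hKd h' ⟨x, by rw [← Scheme.Hom.comp_apply, hfb₀]⟩)
      (by rw [← Scheme.Hom.comp_apply, hfb₀]; exact hx)
    exact Set.disjoint_left.1 hadm.2 hz (e ▸ hfO x)
  · rw [I.supp]
    refine Set.disjoint_left.2 ?_
    rintro _ hy ⟨x, rfl⟩
    refine hy ?_
    rw [← hfg₁, Scheme.Hom.comp_apply]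
    exact hfO x
  · rw [Category.assoc, ← hh]
  · haveI := hg
    rw [htop inferInstance, ← Scheme.topIso_hom]
    infer_instance

/-- Extension of a morphism from a localizing immersion to a proper target after an admissible blow-up. -/
theorem exists_extension {S P : Scheme.{u}} [IsNoetherian S] [IsNoetherian U] [IsNoetherian X] (a : X ⟶ S) (p : P ⟶ S)
    [IsProper p] (j : U ⟶ X) (hj : IsLocImmersion j) (f : U ⟶ P) (h : j ≫ a = f ≫ p) :
    ∃ (I : X.IdealSheafData) (Xt : Scheme.{u}) (c : Xt ⟶ X) (e : U ⟶ Xt) (f' : Xt ⟶ P),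
      BlowUp.IsBlowUp c I ∧ Disjoint (I.support : Set X) (Set.range j) ∧ IsLocImmersion e ∧ DenseRange e.base ∧
      e ≫ c = j ∧ e ≫ f' = f ∧ c ≫ a = f' ≫ p := by
  haveI : AlgebraicGeometry.IsNoetherian (pullback a p) := isNoetherian_of_ft (pullback.fst a p)
  let γ : U ⟶ pullback a p := pullback.lift j f h
  haveI : QuasiCompact γ := quasiCompact_of_compactSpace γ
  haveI : IsNoetherian γ.image := isNoetherian_of_ft γ.imageι
  let g := γ.imageι ≫ pullback.fst a p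
  have hγg : γ.toImage ≫ g = j := by rw [Scheme.Hom.toImage_imageι_assoc, pullback.lift_fst]
  haveI := RZExt.isSchemeTheoreticallyDominant_toImage γ
  haveI : QuasiCompact γ.toImage := quasiCompact_of_compactSpace _
  have hγ : IsLocImmersion γ.toImage := S18195.result γ.toImage g (hγg ▸ hj) fun V => γ.toImage.app_injective V
  obtain ⟨I, J, Γt, Xt, b, c, g', v, hb, -, hc, hJd, -, hgc, hvb, hv, hvg, hvd, hiso⟩ :=
    exists_modification g hγ (hγg ▸ hj)
  haveI := hiso inferInstance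
  refine ⟨J, Xt, c, v ≫ g', inv g' ≫ b ≫ γ.imageι ≫ pullback.snd a p, hc, hγg ▸ hJd, hvg, ?_, ?_, ?_, ?_⟩
  · exact g'.surjective.denseRange.comp hvd g'.continuous
  · rw [Category.assoc, hgc, reassoc_of% hvb, hγg]
  · simp only [Category.assoc, IsIso.hom_inv_id_assoc]
    rw [reassoc_of% hvb, Scheme.Hom.toImage_imageι_assoc, pullback.lift_snd]
  · rw [← cancel_epi g', reassoc_of% hgc]
    simp only [g, Category.assoc, IsIso.hom_inv_id_assoc]
    rw [pullback.condition]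

end Groth.Agent.LocImmBlow
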